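import Mathlib
import Cfsg.Prelude.Def_Characters

/-!
# `S4612`, `E₇(q)`, primes of orders 5 and 10: the interface (helper739)

`Q` the parabolic subgroup of type `A₄ × A₂` of `G = E₇(q)`, `ρ : Q → GL₅(q)` the action on the five root vectors of
height `3` (coefficient of the fifth simple root). `Dat`: what is needed about `(G, Q, ρ)`. `Psi`: a generalised
character of `GL₅(q)` (the cuspidal character attached to a character of order `p` of the Singer cycle).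
-/

set_option autoImplicit false

namespace Cfsg.Agent.H739.PQ.E7

open Cfsg Matrix
open scoped ComplexConjugate

variable {K : Type*} [Field K] {n : ℕ}

/-- `g` preserves `S` -/
def Pres (g : GL (Fin n) K) (S : Submodule K (Fin n → K)) : Prop := ∀ v ∈ S, (g : Matrix (Fin n) (Fin n) K) *ᵥ v ∈ S

/-- the unipotent radical of the stabiliser of `S` -/
def Uni (S : Submodule K (Fin n → K)) : Subgroup (GL (Fin n) K) where
  carrier := {u | (∀ v, (u : Matrix (Fin n) (Fin n) K) *ᵥ v - v ∈ S) ∧ ∀ v ∈ S, (u : Matrix (Fin n) (Fin n) K) *ᵥ v = v}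
  one_mem' := by
    constructor
    · intro v
      rw [Units.val_one, one_mulVec, sub_self]
      exact S.zero_mem
    · intro v _
      rw [Units.val_one, one_mulVec]
  mul_mem' := by
    rintro a b ⟨ha, ha'⟩ ⟨hb, hb'⟩
    constructor
    · intro v
      rw [Units.val_mul, ← mulVec_mulVec]
      have h1 := S.add_mem (ha ((b : Matrix (Fin n) (Fin n) K) *ᵥ v)) (hb v)
      rwa [sub_add_sub_cancel] at h1
    · intro v hv
      rw [Units.val_mul, ← mulVec_mulVec, hb' v hv, ha' v hv]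
  inv_mem' := by
    rintro a ⟨ha, ha'⟩
    have h0 : ∀ v, (a⁻¹ : Matrix (Fin n) (Fin n) K) *ᵥ ((a : Matrix (Fin n) (Fin n) K) *ᵥ v) = v := by
      intro v
      rw [mulVec_mulVec, ← coe_units_inv, Units.inv_mul, one_mulVec]
    have h0' : ∀ v, (a : Matrix (Fin n) (Fin n) K) *ᵥ ((a⁻¹ : Matrix (Fin n) (Fin n) K) *ᵥ v) = v := by
      intro v
      rw [mulVec_mulVec, ← coe_units_inv, Units.mul_inv, one_mulVec]
    constructor
    · intro v
      rw [coe_units_inv]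
      have h1 := ha ((a⁻¹ : Matrix (Fin n) (Fin n) K) *ᵥ v)
      rw [h0'] at h1
      have h2 := S.neg_mem h1
      rwa [neg_sub] at h2
    · intro v hv
      rw [coe_units_inv]
      have h1 := h0 v
      rwa [ha' v hv] at h1

/-- inverse transpose -/
def tau (g : GL (Fin n) K) : GL (Fin n) K :=
  ⟨((g⁻¹ : GL (Fin n) K) : Matrix (Fin n) (Fin n) K)ᵀ, (g : Matrix (Fin n) (Fin n) K)ᵀ,
    by rw [← transpose_mul, ← Units.val_mul, mul_inv_cancel, Units.val_one, transpose_one],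
    by rw [← transpose_mul, ← Units.val_mul, inv_mul_cancel, Units.val_one, transpose_one]⟩

/-- `H` contains `SL` -/
def HasSL (H : Subgroup (GL (Fin n) K)) : Prop := ∀ g : GL (Fin n) K, (g : Matrix (Fin n) (Fin n) K).det = 1 → g ∈ H

/-- the generalised character of `GL₅(q)` -/
structure Psi (K : Type*) [Field K] [Finite K] (p : ℕ) (ψ : GL (Fin 5) K → ℂ) : Prop where
  gen : IsGeneralizedCharacter (GL (Fin 5) K) ψ
  cusp : ∀ S : Submodule K (Fin 5 → K), S ≠ ⊥ → S ≠ ⊤ → ∀ m, Pres m S → ∑ᶠ u : Uni S, ψ (m * u) = 0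
  norm : ∀ H : Subgroup (GL (Fin 5) K), HasSL H → ∑ᶠ h : H, ψ h * conj (ψ h) = Nat.card H
  dual : ∀ H : Subgroup (GL (Fin 5) K), HasSL H → ∑ᶠ h : H, ψ h * conj (ψ (tau h)) = 0
  one : ∀ H : Subgroup (GL (Fin 5) K), HasSL H → ∑ᶠ h : H, ψ h = 0
  reg : ∀ H : Subgroup (GL (Fin 5) K), HasSL H → ∑ᶠ h : {h : H // ¬ p ∣ orderOf (h : GL (Fin 5) K)}, ψ h.1 ≠ 0

/-- the double coset of `k` does not contribute -/
def Bad {G : Type*} [Group G] {Q : Subgroup G} (ρ : ↥Q →* GL (Fin 5) K) (k : G) : Prop :=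
  ∃ S : Submodule K (Fin 5 → K), S ≠ ⊥ ∧ S ≠ ⊤ ∧ (∀ z : ↥Q, k⁻¹ * z * k ∈ Q → Pres (ρ z) S) ∧
    ∀ u ∈ Uni S, ∃ (z : ↥Q) (hz : k⁻¹ * z * k ∈ Q), ρ z = u ∧ ρ ⟨k⁻¹ * z * k, hz⟩ = 1

/-- the double coset of the longest element -/
def Opp {G : Type*} [Group G] {Q : Subgroup G} (ρ : ↥Q →* GL (Fin 5) K) (k : G) : Prop :=
  (∀ (z : ↥Q) (hz : k⁻¹ * z * k ∈ Q), IsConj (ρ ⟨k⁻¹ * z * k, hz⟩) (tau (ρ z))) ∧
    ∀ g : GL (Fin 5) K, (g : Matrix (Fin 5) (Fin 5) K).det = 1 → ∃ z : ↥Q, k⁻¹ * z * k ∈ Q ∧ ρ z = g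

/-- what is needed about the parabolic subgroup -/
structure Dat {G : Type*} [Group G] {Q : Subgroup G} (ρ : ↥Q →* GL (Fin 5) K) : Prop where
  cases : ∀ a : G, ∃ b ∈ Q, ∃ c ∈ Q, ∃ k, a = b * k * c ∧ (k = 1 ∨ Bad ρ k ∨ Opp ρ k)
  sl : HasSL ρ.range

end Cfsg.Agent.H739.PQ.E7
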